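import Mathlib
import Cfsg.Agent.H125.Hall.Defs
import Cfsg.Agent.H408.Pron.Gen
import Cfsg.Agent.Lib.DihedralRecog

/-!
# S2223, SPROW: the natural module of `GU n F = Sp_2n(F)` and its frame

* `rho` : the action of `GU n F` on `n ⊕ n → K`;
* `Ui i` : the `i`-th plane, `mv_t : mv rho (Rj i nu) = Ui i`, `finrank_Ui`;
* `rho_inl`, `rho_inr` : monomial elements.
-/

set_option autoImplicit false
set_option linter.unusedSectionVars false

namespace Cfsg.Agent.H575.Hall

open Quaternion Matrix Equiv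
open Cfsg.Agent.H158.PronQ Cfsg.Agent.H158.PronMat Cfsg.Agent.H158.PronMono Cfsg.Agent.H158.PronSp
open Cfsg.Agent.H158.PronM2 Cfsg.Agent.H158.PronFrame Cfsg.Agent.H158.PronAvg Cfsg.Agent.H408.Pron.Gen
open Cfsg.Agent.H125.Hall

universe u v w

variable {F : Type u} [Field F] {K : Type v} [Field K] [Algebra F K] {n : Type w} [Fintype n] [DecidableEq n]
variable {a b : F}

/-- the matrix over `K` -/
noncomputable def mat (K : Type v) [Field K] [Algebra F K] (a b : F) (g : Matrix n n ℍ[F]) :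
    Matrix (n ⊕ n) (n ⊕ n) K := (Th a b g).map (algebraMap F K)

/-- **the natural module** -/
noncomputable def rho (K : Type v) [Field K] [Algebra F K] (hab : a * a + b * b = -1) :
    GU n F →* ((n ⊕ n → K) →ₗ[K] (n ⊕ n → K)) where
  toFun g := Matrix.toLin' (mat K a b g.1)
  map_one' := by
    show Matrix.toLin' (mat K a b (1 : Matrix n n ℍ[F])) = 1
    rw [mat, Th_one, Matrix.map_one _ (map_zero _) (map_one _), Matrix.toLin'_one]
    rfl
  map_mul' g h := by
    show Matrix.toLin' (mat K a b (g.1 * h.1)) = _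
    rw [mat, Th_mul hab, Matrix.map_mul, Matrix.toLin'_mul]
    rfl

theorem rho_apply (hab : a * a + b * b = -1) (g : GU n F) (v : n ⊕ n → K) :
    rho K hab g v = mat K a b g.1 *ᵥ v := by
  show Matrix.toLin' (mat K a b g.1) v = _
  rw [Matrix.toLin'_apply]

theorem toM_zero (a b : F) : toM a b (0 : ℍ[F]) = 0 := by
  ext i j; fin_cases i <;> fin_cases j <;> simp [toM]

theorem toM_one (a b : F) : toM a b (1 : ℍ[F]) = 1 := by
  ext i j; fin_cases i <;> fin_cases j <;> simp [toM]

theorem toM_neg_one (a b : F) : toM a b (-1 : ℍ[F]) = -1 := by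
  ext i j; fin_cases i <;> fin_cases j <;> simp [toM]

theorem rho_inl (hab : a * a + b * b = -1) {g : GU n F} {σ : Perm n} (hg : Mono g.1 σ) (v : n ⊕ n → K) (c : n) :
    rho K hab g v (Sum.inl (σ c)) = algebraMap F K (toM a b (g.1 (σ c) c) 0 0) * v (Sum.inl c) +
      algebraMap F K (toM a b (g.1 (σ c) c) 0 1) * v (Sum.inr c) := by
  rw [rho_apply, Matrix.mulVec, dotProduct, Fintype.sum_sum_type]
  congr 1
  · refine (Finset.sum_eq_single c (fun d _ hd => ?_) (fun h => absurd (Finset.mem_univ _) h)).trans ?_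
    · have h0 : g.1 (σ c) d = 0 := hg _ _ (fun h => hd (σ.injective h).symm)
      show algebraMap F K (toM a b (g.1 (σ c) d) 0 0) * _ = 0
      rw [h0, toM_zero]; simp
    · rfl
  · refine (Finset.sum_eq_single c (fun d _ hd => ?_) (fun h => absurd (Finset.mem_univ _) h)).trans ?_
    · have h0 : g.1 (σ c) d = 0 := hg _ _ (fun h => hd (σ.injective h).symm)
      show algebraMap F K (toM a b (g.1 (σ c) d) 0 1) * _ = 0
      rw [h0, toM_zero]; simp
    · rfl

theorem rho_inr (hab : a * a + b * b = -1) {g : GU n F} {σ : Perm n} (hg : Mono g.1 σ) (v : n ⊕ n → K) (c : n) :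
    rho K hab g v (Sum.inr (σ c)) = algebraMap F K (toM a b (g.1 (σ c) c) 1 0) * v (Sum.inl c) +
      algebraMap F K (toM a b (g.1 (σ c) c) 1 1) * v (Sum.inr c) := by
  rw [rho_apply, Matrix.mulVec, dotProduct, Fintype.sum_sum_type]
  congr 1
  · refine (Finset.sum_eq_single c (fun d _ hd => ?_) (fun h => absurd (Finset.mem_univ _) h)).trans ?_
    · have h0 : g.1 (σ c) d = 0 := hg _ _ (fun h => hd (σ.injective h).symm)
      show algebraMap F K (toM a b (g.1 (σ c) d) 1 0) * _ = 0
      rw [h0, toM_zero]; simp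
    · rfl
  · refine (Finset.sum_eq_single c (fun d _ hd => ?_) (fun h => absurd (Finset.mem_univ _) h)).trans ?_
    · have h0 : g.1 (σ c) d = 0 := hg _ _ (fun h => hd (σ.injective h).symm)
      show algebraMap F K (toM a b (g.1 (σ c) d) 1 1) * _ = 0
      rw [h0, toM_zero]; simp
    · rfl

/-- equality at the coordinate `c` -/
theorem rho_one_at (hab : a * a + b * b = -1) {g : GU n F} {σ : Perm n} (hg : Mono g.1 σ) (v : n ⊕ n → K) {c : n}
    (hc : g.1 (σ c) c = 1) : rho K hab g v (Sum.inl (σ c)) = v (Sum.inl c) ∧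
      rho K hab g v (Sum.inr (σ c)) = v (Sum.inr c) := by
  rw [rho_inl hab hg, rho_inr hab hg, hc, toM_one]
  simp

theorem rho_neg_at (hab : a * a + b * b = -1) {g : GU n F} {σ : Perm n} (hg : Mono g.1 σ) (v : n ⊕ n → K) {c : n}
    (hc : g.1 (σ c) c = -1) : rho K hab g v (Sum.inl (σ c)) = -v (Sum.inl c) ∧
      rho K hab g v (Sum.inr (σ c)) = -v (Sum.inr c) := by
  rw [rho_inl hab hg, rho_inr hab hg, hc, toM_neg_one]
  simp

/-- the `i`-th plane -/
def Ui (K : Type v) [Field K] (i : n) : Submodule K (n ⊕ n → K) where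
  carrier := {v | ∀ c, c ≠ i → v (Sum.inl c) = 0 ∧ v (Sum.inr c) = 0}
  add_mem' := fun {x y} hx hy c hc => by
    rw [Pi.add_apply, Pi.add_apply, (hx c hc).1, (hx c hc).2, (hy c hc).1, (hy c hc).2, add_zero]
    exact ⟨rfl, rfl⟩
  zero_mem' := fun c _ => ⟨rfl, rfl⟩
  smul_mem' := fun r x hx c hc => by
    rw [Pi.smul_apply, Pi.smul_apply, (hx c hc).1, (hx c hc).2, smul_zero]
    exact ⟨rfl, rfl⟩

theorem mem_Ui {i : n} {v : n ⊕ n → K} : v ∈ Ui K i ↔ ∀ c, c ≠ i → v (Sum.inl c) = 0 ∧ v (Sum.inr c) = 0 := Iff.rfl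

theorem finrank_Ui (i : n) : Module.finrank K (Ui K i) = 2 := by
  let e : Ui K i ≃ₗ[K] K × K :=
    { toFun := fun v => (v.1 (Sum.inl i), v.1 (Sum.inr i))
      map_add' := fun _ _ => rfl
      map_smul' := fun _ _ => rfl
      invFun := fun p => ⟨Sum.elim (Pi.single i p.1) (Pi.single i p.2), fun c hc => by
        rw [Sum.elim_inl, Sum.elim_inr, Pi.single_eq_of_ne hc, Pi.single_eq_of_ne hc]
        exact ⟨rfl, rfl⟩⟩
      left_inv := fun v => by
        apply Subtype.ext
        funext x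
        rcases x with c | c
        · show (Pi.single i (v.1 (Sum.inl i)) : n → K) c = v.1 (Sum.inl c)
          by_cases h : c = i
          · subst h; rw [Pi.single_eq_same]
          · rw [Pi.single_eq_of_ne h, (v.2 c h).1]
        · show (Pi.single i (v.1 (Sum.inr i)) : n → K) c = v.1 (Sum.inr c)
          by_cases h : c = i
          · subst h; rw [Pi.single_eq_same]
          · rw [Pi.single_eq_of_ne h, (v.2 c h).2]
      right_inv := fun p => by
        show ((Pi.single i p.1 : n → K) i, (Pi.single i p.2 : n → K) i) = p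
        rw [Pi.single_eq_same, Pi.single_eq_same] }
  rw [e.finrank_eq, Module.finrank_prod, Module.finrank_self]

theorem Rj_entry (i : n) (h : U F) : (Rj i h).1 i i = h := by
  rw [Rj_apply, if_pos rfl, if_pos rfl]

theorem Rj_entry_ne {i c : n} (hc : c ≠ i) (h : U F) : (Rj i h).1 c c = 1 := by
  rw [Rj_apply, if_pos rfl, if_neg hc]

theorem rho_Rj_ne (hab : a * a + b * b = -1) {i c : n} (hc : c ≠ i) (h : U F) (v : n ⊕ n → K) :
    rho K hab (Rj i h) v (Sum.inl c) = v (Sum.inl c) ∧ rho K hab (Rj i h) v (Sum.inr c) = v (Sum.inr c) :=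
  rho_one_at hab (σ := 1) (Rj_mono i h) v (c := c) (Rj_entry_ne hc h)

theorem rho_t_self (hab : a * a + b * b = -1) (i : n) (v : n ⊕ n → K) :
    rho K hab (Rj i nu) v (Sum.inl i) = -v (Sum.inl i) ∧ rho K hab (Rj i nu) v (Sum.inr i) = -v (Sum.inr i) :=
  rho_neg_at hab (σ := 1) (Rj_mono i nu) v (c := i) (Rj_entry i nu)

/-- on `Ui i` -/
theorem mem_mv_of_neg (h2 : (2 : K) ≠ 0) (hab : a * a + b * b = -1) {g : GU n F} {v : n ⊕ n → K}
    (h : rho K hab g v = -v) : v ∈ mv (rho K hab) g := by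
  refine ⟨-((2 : K)⁻¹ • v), ?_⟩
  rw [LinearMap.sub_apply, Module.End.one_apply, map_neg, map_smul, h, smul_neg, neg_neg, sub_neg_eq_add, ← two_smul K
    ((2 : K)⁻¹ • v), smul_smul, mul_inv_cancel₀ h2, one_smul]

theorem rho_t_Ui (hab : a * a + b * b = -1) {i : n} {v : n ⊕ n → K} (hv : v ∈ Ui K i) :
    rho K hab (Rj i nu) v = -v := by
  funext x
  rcases x with c | c
  · by_cases h : c = i
    · subst h; exact (rho_t_self hab c v).1
    · rw [(rho_Rj_ne hab h nu v).1, Pi.neg_apply, (hv c h).1, neg_zero]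
  · by_cases h : c = i
    · subst h; exact (rho_t_self hab c v).2
    · rw [(rho_Rj_ne hab h nu v).2, Pi.neg_apply, (hv c h).2, neg_zero]

theorem mv_t (h2 : (2 : K) ≠ 0) (hab : a * a + b * b = -1) (i : n) : mv (rho K hab) (Rj i nu) = Ui K i := by
  apply le_antisymm
  · rintro _ ⟨v, rfl⟩ c hc
    rw [LinearMap.sub_apply, Module.End.one_apply, Pi.sub_apply, Pi.sub_apply, (rho_Rj_ne hab hc nu v).1,
      (rho_Rj_ne hab hc nu v).2, sub_self, sub_self]
    exact ⟨rfl, rfl⟩
  · intro v hv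
    exact mem_mv_of_neg h2 hab (rho_t_Ui hab hv)

theorem eq_zero_of_fix (h2 : (2 : K) ≠ 0) (hab : a * a + b * b = -1) {i : n} {v : n ⊕ n → K}
    (h : rho K hab (Rj i nu) v = v) : v (Sum.inl i) = 0 ∧ v (Sum.inr i) = 0 := by
  obtain ⟨h3, h4⟩ := rho_t_self hab i v
  rw [h] at h3 h4
  have key : ∀ x : K, x = -x → x = 0 := fun x hx => by
    have h5 : (2 : K) * x = 0 := by rw [two_mul]; nth_rewrite 2 [hx]; exact add_neg_cancel x
    exact (mul_eq_zero.1 h5).resolve_left h2
  exact ⟨key _ h3, key _ h4⟩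

/-- monomial elements permute the planes -/
theorem rho_Ui (hab : a * a + b * b = -1) {g : GU n F} {σ : Perm n} (hg : Mono g.1 σ) {i : n} {v : n ⊕ n → K}
    (hv : v ∈ Ui K i) : rho K hab g v ∈ Ui K (σ i) := by
  intro c hc
  obtain ⟨d, rfl⟩ := σ.surjective c
  have hd : d ≠ i := fun h => hc (by rw [h])
  rw [rho_inl hab hg, rho_inr hab hg, (hv d hd).1, (hv d hd).2]
  simp

theorem Ui_disjoint {i j : n} (hij : i ≠ j) {v : n ⊕ n → K} (hi : v ∈ Ui K i) (hj : v ∈ Ui K j) : v = 0 := by
  funext x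
  rcases x with c | c
  · by_cases h : c = i
    · exact (hj c (fun h' => hij (h.symm.trans h'))).1
    · exact (hi c h).1
  · by_cases h : c = i
    · exact (hj c (fun h' => hij (h.symm.trans h'))).2
    · exact (hi c h).2

theorem rho_injective (hab : a * a + b * b = -1) (h2 : (2 : F) ≠ 0) :
    Function.Injective (rho K hab : GU n F → _) := by
  intro g h hgh
  have h1 : mat K a b g.1 = mat K a b h.1 := Matrix.toLin'.injective hgh
  apply Subtype.ext
  apply Th_injective hab h2
  exact Matrix.map_injective (algebraMap F K).injective h1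

theorem rho_det (hab : a * a + b * b = -1) (g : GU n F) : LinearMap.det (rho K hab g) = 1 := by
  show LinearMap.det (Matrix.toLin' (mat K a b g.1)) = 1
  rw [LinearMap.det_toLin']
  have h1 : (Th a b g.1).det = 1 := SymplecticGroup.det_eq_one (toSp hab g).2
  have h3 : (mat K a b g.1).det = algebraMap F K (Th a b g.1).det := by
    rw [mat, ← RingHom.mapMatrix_apply, ← RingHom.map_det]
  rw [h3, h1, map_one]

end Cfsg.Agent.H575.Hall
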